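import Groth.Agent.S1585
import Groth.Agent.NormUPLib.Char
import Groth.Agent.RedSepLib.Basic
import Groth.Agent.AlterN1.Basic
import Groth.Agent.S1535
import Mathlib.AlgebraicGeometry.Geometrically.Irreducible
import Mathlib.AlgebraicGeometry.Geometrically.Connected
import Mathlib.AlgebraicGeometry.Geometrically.Reduced

/-!
# Normalization and base change of geometrically irreducible varieties
-/

set_option autoImplicit false
set_option backward.isDefEq.respectTransparency false
set_option linter.style.haveILetI false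

universe u

open CategoryTheory CategoryTheory.Limits AlgebraicGeometry TopologicalSpace

noncomputable section

namespace Groth.Agent.NormBCLib

/-- Geometric irreducibility only depends on the underlying space, universally. -/
theorem geometricallyIrreducible_of_surjective {R B S : Scheme.{u}} (ι : R ⟶ B) [IsClosedImmersion ι]
    [Surjective ι] (q : B ⟶ S) [GeometricallyIrreducible q] : GeometricallyIrreducible (ι ≫ q) := by
  refine ⟨geometrically_iff_of_isClosedUnderIsomorphisms.mpr fun L _ y => ?_⟩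
  rw [← (pullbackRightPullbackFstIso q y ι).hom.homeomorph.irreducibleSpace_iff]
  haveI : IrreducibleSpace ↥(pullback q y) :=
    pullback_of_geometrically GeometricallyIrreducible.geometrically_irreducibleSpace L y
  have hH : IsHomeomorph (pullback.snd ι (pullback.fst q y)) :=
    isHomeomorph_iff_isEmbedding_surjective.mpr
      ⟨(pullback.snd ι (pullback.fst q y)).isClosedEmbedding.isEmbedding,
        (pullback.snd ι (pullback.fst q y)).surjective⟩
  exact hH.homeomorph.irreducibleSpace_iff.mpr ‹_›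

/-- A scheme birational to a geometrically irreducible one is geometrically irreducible. -/
theorem geometricallyIrreducible_of_open {U N R : Scheme.{u}} {K : Type u} [Field K] (j : U ⟶ N)
    [IsOpenImmersion j] [Nonempty ↥U] [IrreducibleSpace ↥N] (ν : N ⟶ R) [IsOpenImmersion (j ≫ ν)]
    (q : R ⟶ Spec (CommRingCat.of K)) [GeometricallyIrreducible q] :
    GeometricallyIrreducible (ν ≫ q) := by
  refine ⟨geometrically_iff_of_isClosedUnderIsomorphisms.mpr fun L _ y => ?_⟩
  haveI : IrreducibleSpace ↥(pullback q y) :=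
    pullback_of_geometrically GeometricallyIrreducible.geometrically_irreducibleSpace L y
  let a : pullback ((j ≫ ν) ≫ q) y ⟶ pullback q y :=
    pullback.map _ _ _ _ (j ≫ ν) (𝟙 _) (𝟙 _) (by simp) (by simp)
  let b : pullback ((j ≫ ν) ≫ q) y ⟶ pullback (ν ≫ q) y :=
    pullback.map _ _ _ _ j (𝟙 _) (𝟙 _) (by simp) (by simp)
  haveI : IsOpenImmersion b := inferInstance
  haveI : Nonempty ↥(pullback ((j ≫ ν) ≫ q) y) := by
    haveI : Surjective (pullback.fst ((j ≫ ν) ≫ q) y) := inferInstance
    exact ⟨((pullback.fst ((j ≫ ν) ≫ q) y).surjective (Classical.arbitrary _)).choose⟩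
  haveI : IrreducibleSpace ↥(pullback ((j ≫ ν) ≫ q) y) := a.isOpenEmbedding.irreducibleSpace
  have hb : Dense (Set.range b) := by
    rw [Scheme.Pullback.range_map]
    have h1 : Dense (Set.range j) :=
      j.isOpenEmbedding.isOpen_range.dense (Set.range_nonempty _)
    have h2 := h1.preimage (pullback.fst (ν ≫ q) y).isOpenMap
    simpa using h2
  have h3 := (IrreducibleSpace.isIrreducible_univ ↥(pullback ((j ≫ ν) ≫ q) y)).image b
    b.continuous.continuousOn
  rw [Set.image_univ] at h3
  have h4 := h3.closure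
  rw [hb.closure_eq] at h4
  exact (irreducibleSpace_def _).mpr h4

/-- An open immersion through a closed immersion lifts to an open immersion. -/
theorem isOpenImmersion_of_comp_mono {U R B : Scheme.{u}} (a : U ⟶ R) (ι : R ⟶ B) [Mono ι]
    [IsOpenImmersion (a ≫ ι)] : IsOpenImmersion a := by
  haveI : Mono (pullback.snd ι (a ≫ ι)) := inferInstance
  haveI : IsSplitEpi (pullback.snd ι (a ≫ ι)) :=
    IsSplitEpi.mk' ⟨pullback.lift a (𝟙 U) (by simp), pullback.lift_snd _ _ _⟩
  haveI : IsIso (pullback.snd ι (a ≫ ι)) := isIso_of_mono_of_isSplitEpi _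
  have h : a = inv (pullback.snd ι (a ≫ ι)) ≫ pullback.fst ι (a ≫ ι) := by
    rw [IsIso.eq_inv_comp, ← cancel_mono ι, Category.assoc, pullback.condition]
  rw [h]
  infer_instance

/-- A morphism of integral schemes which is an open immersion on a nonempty open is birational. -/
theorem generic_of_open {U Y R : Scheme.{u}} [IrreducibleSpace ↥Y] [IrreducibleSpace ↥R] [Nonempty ↥U]
    (j : U ⟶ Y) [IsOpenImmersion j] (f : Y ⟶ R) [IsOpenImmersion (j ≫ f)] :
    f (genericPoint ↥Y) = genericPoint ↥R ∧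
      Function.Surjective (f.stalkMap (genericPoint ↥Y)) := by
  haveI : IrreducibleSpace ↥U := j.isOpenEmbedding.irreducibleSpace
  have h1 := genericPoint_eq_of_isOpenImmersion j
  have h2 := genericPoint_eq_of_isOpenImmersion (j ≫ f)
  rw [Scheme.Hom.comp_apply, h1] at h2
  refine ⟨h2, ?_⟩
  have h3 : Function.Surjective (f.stalkMap (j (genericPoint ↥U))) := by
    intro z
    haveI : IsIso ((j ≫ f).stalkMap (genericPoint ↥U)) := inferInstance
    obtain ⟨w, hw⟩ := (ConcreteCategory.bijective_of_isIso ((j ≫ f).stalkMap (genericPoint ↥U))).2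
      (j.stalkMap (genericPoint ↥U) z)
    refine ⟨w, (ConcreteCategory.bijective_of_isIso (j.stalkMap (genericPoint ↥U))).1 ?_⟩
    rw [← hw, Scheme.Hom.stalkMap_comp]
    rfl
  rwa [h1] at h3

theorem isNormalScheme_of_smooth {k : Type u} [Field k] {Y : Scheme.{u}} [Y.Over (Spec (CommRingCat.of k))]
    [Smooth (Y ↘ Spec (CommRingCat.of k))] : Pi1.IsNormalScheme Y :=
  AlterN1.isNormalScheme_of_regular Y fun y => S1535.result k Y y

theorem map_comp_map {U N X S T : Scheme.{u}} (j : U ⟶ N) (ν : N ⟶ X) (f : X ⟶ S) (g : T ⟶ S)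
    (h₁ : (j ≫ ν ≫ f) ≫ 𝟙 S = j ≫ ν ≫ f) (h₂ : g ≫ 𝟙 S = 𝟙 T ≫ g)
    (h₃ : (ν ≫ f) ≫ 𝟙 S = ν ≫ f) (h₄ : (j ≫ ν ≫ f) ≫ 𝟙 S = (j ≫ ν) ≫ f) :
    pullback.map (j ≫ ν ≫ f) g (ν ≫ f) g j (𝟙 T) (𝟙 S) h₁ h₂ ≫ pullback.map (ν ≫ f) g f g ν (𝟙 T) (𝟙 S) h₃ h₂ =
      pullback.map (j ≫ ν ≫ f) g f g (j ≫ ν) (𝟙 T) (𝟙 S) h₄ h₂ := by
  ext <;> simp

/-- The normalization of a variety is an isomorphism over a dense open. -/
theorem exists_open_normalization (k : Type u) [Field k] (X : Scheme.{u}) [IsIntegral X]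
    (q : X ⟶ Spec (CommRingCat.of k)) [LocallyOfFiniteType q]
    [QuasiCompact (X.fromSpecStalk (genericPoint X))] [QuasiSeparated (X.fromSpecStalk (genericPoint X))] :
    IsFinite (Curv2.normalizationι X) ∧ IrreducibleSpace ↥(Curv2.normalization X) ∧
      ∃ (U : Scheme.{u}) (j : U ⟶ Curv2.normalization X), Nonempty ↥U ∧ IsOpenImmersion j ∧
        IsOpenImmersion (j ≫ Curv2.normalizationι X) := by
  letI : X.Over (Spec (CommRingCat.of k)) := ⟨q⟩
  haveI : LocallyOfFiniteType (X ↘ Spec (CommRingCat.of k)) := ‹LocallyOfFiniteType q›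
  obtain ⟨hfin, hdom, ⟨V, hV, hiso⟩, hint, -⟩ := S1585.result k X
  refine ⟨hfin, inferInstance, _, (Curv2.normalizationι X ⁻¹ᵁ V).ι, ?_, inferInstance, ?_⟩
  · haveI : Nonempty ↥(V.toScheme) := hV.to_subtype
    exact ⟨(asIso (Curv2.normalizationι X ∣_ V)).inv (Classical.arbitrary _)⟩
  · rw [← morphismRestrict_ι]
    infer_instance

end Groth.Agent.NormBCLib
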